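import Mathlib

/-!
# Inertia of an infinite Galois extension surjects onto the inertia of a finite layer
-/

set_option autoImplicit false
universe u
open scoped Pointwise

namespace Groth.Agent.H9InertiaEt

/-- An automorphism congruent to the identity on the invariants is congruent to a group element. -/
theorem exists_smul_congr {B' B H : Type u} [CommRing B'] [CommRing B] [Algebra B' B] [Group H] [Finite H]
    [MulSemiringAction H B] [SMulCommClass H B' B] [Algebra.IsInvariant B' B H] (Q : Ideal B) [Q.IsPrime]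
    (σ : B ≃+* B) (h : ∀ x : B', σ (algebraMap B' B x) - algebraMap B' B x ∈ Q) :
    ∃ τ : H, ∀ b : B, σ b - τ • b ∈ Q := by
  have hunder : (Q.comap σ.toRingHom).under B' = Q.under B' := by
    ext x
    simp only [Ideal.mem_comap, RingEquiv.toRingHom_eq_coe, RingEquiv.coe_toRingHom]
    exact ⟨fun hx => by simpa using Q.sub_mem hx (h x), fun hx => by simpa using Q.add_mem (h x) hx⟩
  have : (Q.comap σ.toRingHom).IsPrime := Ideal.IsPrime.comap _
  obtain ⟨τ, hτ⟩ := Algebra.IsInvariant.exists_smul_of_under_eq B' B H (Q.comap σ.toRingHom) Q hunder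
  have : Q.LiesOver (Q.under B') := ⟨rfl⟩
  let ρ : B ≃+* B := (MulSemiringAction.toRingEquiv H B τ⁻¹).trans σ
  have hρ : ∀ b, ρ b = σ (τ⁻¹ • b) := fun b => rfl
  have hρQ : ∀ b, b ∈ Q ↔ ρ b ∈ Q := fun b => by
    have h1 : b ∈ τ • Q.comap σ.toRingHom ↔ τ⁻¹ • b ∈ Q.comap σ.toRingHom :=
      Ideal.mem_pointwise_smul_iff_inv_smul_mem
    rw [← hτ] at h1
    exact h1.trans (by rw [hρ]; rfl)
  let e : (B ⧸ Q) ≃+* (B ⧸ Q) := Ideal.quotientEquiv Q Q ρ (by
    ext b
    show _ ↔ b ∈ Ideal.map ρ Q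
    rw [Ideal.mem_map_of_equiv]
    exact ⟨fun hb => ⟨ρ.symm b, (hρQ _).mpr (by simpa using hb), by simp⟩, fun ⟨c, hc, h⟩ => h ▸ (hρQ c).mp hc⟩)
  have he : ∀ x : B' ⧸ Q.under B', e (algebraMap _ (B ⧸ Q) x) = algebraMap _ (B ⧸ Q) x := by
    intro x
    obtain ⟨x, rfl⟩ := Ideal.Quotient.mk_surjective x
    refine Ideal.Quotient.eq.mpr ?_
    show ρ (algebraMap B' B x) - _ ∈ Q
    rw [hρ, show τ⁻¹ • algebraMap B' B x = algebraMap B' B x from smul_algebraMap τ⁻¹ x]
    exact h x
  obtain ⟨τ', hτ'⟩ := Ideal.Quotient.stabilizerHom_surjective H (Q.under B') Q (AlgEquiv.ofRingEquiv (f := e) he)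
  refine ⟨(τ' : H) * τ, fun b => ?_⟩
  have h1 := AlgEquiv.congr_fun hτ' (Ideal.Quotient.mk Q (τ • b))
  rw [← Ideal.Quotient.eq, mul_smul]
  calc Ideal.Quotient.mk Q (σ b) = Ideal.Quotient.mk Q (ρ (τ • b)) := by rw [hρ, inv_smul_smul]
    _ = Ideal.Quotient.mk Q ((τ' : H) • (τ • b)) := h1.symm

variable {A K L : Type u} [CommRing A] [Field K] [Field L] [Algebra A K] [Algebra K L] [Algebra A L]
  [IsScalarTower A K L]

/-- Lifts of an inertia element to a larger finite layer. -/
theorem exists_lift_finite [FiniteDimensional K L] [IsGalois K L] (Q : Ideal (integralClosure A L)) [Q.IsPrime]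
    (M : IntermediateField K L) (σ0 : L ≃ₐ[K] L)
    (h : ∀ b : integralClosure A L, (b : L) ∈ M → σ0 • b - b ∈ Q) :
    ∃ σ : L ≃ₐ[K] L, (∀ x ∈ M, σ x = σ0 x) ∧ ∀ b : integralClosure A L, σ • b - b ∈ Q := by
  let H := M.fixingSubgroup
  let B' := FixedPoints.subalgebra A (integralClosure A L) H
  haveI : SMulCommClass H B' (integralClosure A L) := ⟨fun τ x b => by
    show τ • ((x : integralClosure A L) * b) = (x : integralClosure A L) * τ • b
    rw [smul_mul', x.2 τ]⟩
  haveI : Algebra.IsInvariant B' (integralClosure A L) H := ⟨fun b hb => ⟨⟨b, hb⟩, rfl⟩⟩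
  obtain ⟨τ, hτ⟩ := exists_smul_congr (B' := B') (H := H) Q
    (MulSemiringAction.toRingEquiv (L ≃ₐ[K] L) (integralClosure A L) σ0) fun x => h (x : integralClosure A L) (by
      rw [← IsGalois.fixedField_fixingSubgroup M]
      exact fun τ => congrArg Subtype.val (x.2 τ))
  refine ⟨σ0 * (τ : L ≃ₐ[K] L)⁻¹, fun x hx => congrArg σ0 ((H.inv_mem τ.2) ⟨x, hx⟩), fun b => ?_⟩
  have h1 := hτ ((τ : L ≃ₐ[K] L)⁻¹ • b)
  rw [show (τ • ((τ : L ≃ₐ[K] L)⁻¹ • b) : integralClosure A L) = b from smul_inv_smul (τ : L ≃ₐ[K] L) b] at h1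
  rw [mul_smul]
  exact h1

theorem isClopen_setOf_smul [IsGalois K L] (b : integralClosure A L) (P : integralClosure A L → Prop) :
    IsClopen {σ : L ≃ₐ[K] L | P (σ • b)} := by
  have key : ∀ P : integralClosure A L → Prop, IsOpen {σ : L ≃ₐ[K] L | P (σ • b)} := fun P => by
    refine isOpen_iff_forall_mem_open.mpr fun σ hσ => ?_
    haveI : FiniteDimensional K (IntermediateField.adjoin K {(b : L)}) :=
      IntermediateField.adjoin.finiteDimensional (Algebra.IsIntegral.isIntegral _)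
    refine ⟨(σ * ·) '' (IntermediateField.adjoin K {(b : L)}).fixingSubgroup, ?_,
      (Homeomorph.mulLeft σ).isOpenMap _ (IntermediateField.fixingSubgroup_isOpen _), ⟨1, Subgroup.one_mem _, mul_one σ⟩⟩
    rintro _ ⟨τ, hτ, rfl⟩
    have h : τ • b = b := Subtype.ext (hτ ⟨(b : L), IntermediateField.mem_adjoin_simple_self K _⟩)
    show P ((σ * τ) • b)
    rwa [mul_smul, h]
  exact ⟨⟨key fun v => ¬ P v⟩, key P⟩

/-- Inertia surjects onto the inertia of a finite layer. -/
theorem exists_lift [IsGalois K L] (q : Ideal (integralClosure A L)) [q.IsPrime]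
    (M : IntermediateField K L) [FiniteDimensional K M] (σ0 : L ≃ₐ[K] L)
    (h : ∀ b : integralClosure A L, (b : L) ∈ M → σ0 • b - b ∈ q) :
    ∃ σ : L ≃ₐ[K] L, (∀ x ∈ M, σ x = σ0 x) ∧ ∀ b : integralClosure A L, σ • b - b ∈ q := by
  classical
  let X₀ : Set (L ≃ₐ[K] L) := {σ | ∀ x ∈ M, σ x = σ0 x}
  have hX₀ : IsClosed X₀ := by
    have : X₀ = (σ0 * ·) '' M.fixingSubgroup := by
      ext σ
      refine ⟨fun hσ => ⟨σ0⁻¹ * σ, fun x => ?_, mul_inv_cancel_left σ0 σ⟩, ?_⟩
      · show σ0⁻¹ (σ (x : L)) = x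
        rw [hσ x x.2]
        exact σ0.symm_apply_apply _
      · rintro ⟨τ, hτ, rfl⟩ x hx
        exact congrArg σ0 (hτ ⟨x, hx⟩)
    rw [this]
    exact (Homeomorph.mulLeft σ0).isClosedMap _ (InfiniteGalois.fixingSubgroup_isClosed M)
  obtain ⟨σ, hσ0, hσ⟩ := hX₀.isCompact.inter_iInter_nonempty (fun b : integralClosure A L => {σ : L ≃ₐ[K] L | σ • b - b ∈ q})
    (fun b => (isClopen_setOf_smul b fun v => v - b ∈ q).1) fun t => by
    let F := IntermediateField.adjoin K (Subtype.val '' (t : Set (integralClosure A L)))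
    haveI : FiniteDimensional K F := IntermediateField.finiteDimensional_adjoin fun x _ => Algebra.IsIntegral.isIntegral x
    let N := IntermediateField.normalClosure K ↥(M ⊔ F) L
    haveI : IsGalois K N := IsGalois.normalClosure K ↥(M ⊔ F) L
    have hle : M ⊔ F ≤ N := IntermediateField.le_normalClosure _
    let ι : integralClosure A N →+* integralClosure A L :=
      (N.val.restrictScalars A).mapIntegralClosure.toRingHom
    let σN := AlgEquiv.restrictNormal σ0 N
    have hι : ∀ (g : L ≃ₐ[K] L) (b : integralClosure A N), ι (g.restrictNormal N • b) = g • ι b := fun g b =>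
      Subtype.ext (AlgEquiv.restrictNormal_commutes g N (b : N))
    obtain ⟨σ1, hM, hI⟩ := exists_lift_finite (q.comap ι) (M.comap N.val) σN fun b hb => by
      rw [Ideal.mem_comap, map_sub, hι]
      exact h (ι b) hb
    obtain ⟨g, hg⟩ := AlgEquiv.restrictNormalHom_surjective (F := K) (K₁ := N) L σ1
    have hg' : g.restrictNormal N = σ1 := hg
    refine ⟨g, fun x hx => ?_, Set.mem_iInter₂.mpr fun b hb => ?_⟩
    · have hxN : x ∈ N := hle (le_sup_left (a := M) hx)
      rw [show g x = ((g.restrictNormal N) ⟨x, hxN⟩ : L) from (AlgEquiv.restrictNormal_commutes g N ⟨x, hxN⟩).symm,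
        hg', hM ⟨x, hxN⟩ hx]
      exact AlgEquiv.restrictNormal_commutes σ0 N ⟨x, hxN⟩
    · have hbN : (b : L) ∈ N := hle (le_sup_right (a := M) (IntermediateField.subset_adjoin K _ ⟨b, hb, rfl⟩))
      let b' : integralClosure A N := ⟨⟨(b : L), hbN⟩,
        (isIntegral_algHom_iff (N.val.restrictScalars A) Subtype.val_injective).mp b.2⟩
      have h1 := hI b'
      rw [Ideal.mem_comap, map_sub, ← hg', hι] at h1
      exact h1
  exact ⟨σ, hσ0, fun b => Set.mem_iInter.mp hσ b⟩

end Groth.Agent.H9InertiaEt
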