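import Groth.Agent.H9InertiaEt.Separating
import Groth.Agent.H9InertiaEt.Lifting
import Groth.Agent.H1CAlg.IndEtale

/-!
# Localizations of inertia invariants of an integral closure are ind-etale
-/

set_option autoImplicit false
universe u
open scoped Pointwise
open Polynomial

namespace Groth.Agent.H9InertiaEt

/-- An etale algebra inside a localization of a monogenic-up-to-conductor algebra. -/
theorem exists_etale_of_conductor {A C Bl : Type u} [CommRing A] [CommRing C] [IsDomain C] [Algebra A C]
    [CommRing Bl] [Algebra C Bl] [Algebra A Bl] [IsScalarTower A C Bl] (p : Ideal C) [p.IsPrime]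
    [IsLocalization.AtPrime Bl p] (θ : C) (f : A[X]) (hf : f.Monic) (hθ : aeval θ f = 0)
    (hker : ∀ r : A[X], aeval θ r = 0 → f ∣ r) (hd : aeval θ (derivative f) ∉ p)
    (s : C) (hs : s ∉ p) (rs : A[X]) (hrs : aeval θ rs = s * aeval θ (derivative f)) :
    ∃ (E : Type u) (_ : CommRing E) (_ : Algebra A E) (_ : Algebra.Etale A E) (h : E →ₐ[A] Bl),
      Function.Injective h ∧ ∀ (x : Bl) (c : C) (rc : A[X]), aeval θ rc = c * aeval θ (derivative f) →
        algebraMap C Bl s * x = algebraMap C Bl c → x ∈ h.range := by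
  let g : A[X] := derivative f * rs
  let P : StandardEtalePair A := ⟨f, hf, g, rs, 0, 1, by rw [mul_zero, add_zero, pow_one]⟩
  let j : AdjoinRoot f →ₐ[A] C := AdjoinRoot.liftAlgHom f (Algebra.ofId A C) θ hθ
  have hj : ∀ r, j (AdjoinRoot.mk f r) = aeval θ r := fun r => AdjoinRoot.liftAlgHom_mk _ _ _ _ _
  have hgp : aeval θ g ∉ p := by
    rw [map_mul, hrs]
    exact fun h => (‹p.IsPrime›.mem_or_mem h).elim hd fun h' => (‹p.IsPrime›.mem_or_mem h').elim hs hd
  have hu : IsUnit ((IsScalarTower.toAlgHom A C Bl).comp j (AdjoinRoot.mk f g)) := by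
    rw [AlgHom.comp_apply, hj]
    exact IsLocalization.map_units Bl (⟨_, hgp⟩ : p.primeCompl)
  have hinjC : Function.Injective (algebraMap C Bl) := IsLocalization.injective Bl p.primeCompl_le_nonZeroDivisors
  have hjinj : Function.Injective j := (injective_iff_map_eq_zero j).mpr fun z hz => by
    obtain ⟨r, rfl⟩ := AdjoinRoot.mk_surjective z
    rw [hj] at hz
    exact AdjoinRoot.mk_eq_zero.mpr (hker r hz)
  let E := Localization.Away (AdjoinRoot.mk f g)
  haveI : Algebra.Etale A E := Algebra.Etale.of_equiv P.equivAwayAdjoinRoot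
  let h : E →ₐ[A] Bl := IsLocalization.Away.liftAlgHom (AdjoinRoot.mk f g)
    (f := (IsScalarTower.toAlgHom A C Bl).comp j) hu
  have hh : ∀ z, h (algebraMap (AdjoinRoot f) E z) = algebraMap C Bl (j z) := fun z =>
    IsLocalization.Away.lift_eq _ hu z
  refine ⟨E, inferInstance, inferInstance, inferInstance, h, (injective_iff_map_eq_zero h).mpr fun z hz => ?_,
    fun x c rc hrc hx => ?_⟩
  · obtain ⟨⟨r, t⟩, hrt⟩ := IsLocalization.surj (Submonoid.powers (AdjoinRoot.mk f g)) z
    have h1 := congrArg h hrt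
    rw [map_mul, hz, zero_mul, hh] at h1
    have h2 : r = 0 := hjinj (hinjC (h1.symm.trans ((map_zero (algebraMap C Bl)).symm.trans (congrArg _ (map_zero j).symm))))
    rw [h2, map_zero] at hrt
    exact (IsLocalization.map_units E t).mul_left_eq_zero.mp hrt
  · refine ⟨algebraMap (AdjoinRoot f) E (AdjoinRoot.mk f (rc * derivative f)) *
      IsLocalization.Away.invSelf (AdjoinRoot.mk f g), ?_⟩
    have hdu : IsUnit (algebraMap C Bl (aeval θ (derivative f) * (s * aeval θ (derivative f)))) := by
      have h1 := hu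
      rw [AlgHom.comp_apply, hj, map_mul, hrs] at h1
      exact h1
    refine hdu.mul_right_cancel ?_
    have hgE : h (algebraMap (AdjoinRoot f) E (AdjoinRoot.mk f g)) =
        algebraMap C Bl (aeval θ (derivative f) * (s * aeval θ (derivative f))) := by
      rw [hh, hj, map_mul, hrs]
    show h _ * _ = x * _
    rw [← hgE, ← map_mul h, mul_assoc, mul_comm (IsLocalization.Away.invSelf _), IsLocalization.Away.mul_invSelf, mul_one,
      hh, hgE, hj, map_mul, hrc, map_mul, map_mul, map_mul, map_mul, ← hx]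
    ring

variable {A K L : Type u} [CommRing A] [IsDomain A] [IsIntegrallyClosed A] [Field K] [Field L] [Algebra A K]
  [IsFractionRing A K] [Algebra K L] [Algebra A L] [IsScalarTower A K L] [IsGalois K L]

theorem isInvariant (N : IntermediateField K L) [FiniteDimensional K N] [IsGalois K N] :
    Algebra.IsInvariant A (integralClosure A N) (N ≃ₐ[K] N) := ⟨fun b hb => by
  obtain ⟨k, hk⟩ := (IsGalois.mem_bot_iff_fixed (b : N)).mpr fun σ => congrArg Subtype.val (hb σ)
  have hk' : algebraMap K N k = (b : N) := hk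
  obtain ⟨a, ha⟩ := IsIntegrallyClosed.isIntegral_iff.mp
    ((isIntegral_algebraMap_iff (algebraMap K N).injective).mp (hk' ▸ b.2 : IsIntegral A (algebraMap K N k)))
  exact ⟨a, Subtype.ext ((IsScalarTower.algebraMap_apply A K N a).trans (by rw [ha, hk']))⟩⟩

theorem isIndEtale (q : Ideal (integralClosure A L)) [q.IsPrime] (I : Subgroup (L ≃ₐ[K] L))
    (hI : ∀ σ : L ≃ₐ[K] L, σ ∈ I ↔ ∀ b : integralClosure A L, ∃ c ∈ q, (c : L) = σ b - b) :
    EtPBC.IsIndEtale A (Localization.AtPrime
      (q.comap (Subalgebra.inclusion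
        (inf_le_left : integralClosure A L ⊓ (IntermediateField.fixedField I).toSubalgebra.restrictScalars A ≤
          integralClosure A L)))) := by
  classical
  set C := integralClosure A L ⊓ (IntermediateField.fixedField I).toSubalgebra.restrictScalars A
  set p := q.comap (Subalgebra.inclusion (inf_le_left : C ≤ integralClosure A L)) with hp
  refine H1CAlg.IndEtale.isIndEtale_of_factors fun P _ _ _ F => ?_
  obtain ⟨S, hS⟩ := Algebra.FiniteType.out (R := A) (A := P)
  obtain ⟨⟨s, hs⟩, hb⟩ := IsLocalization.exist_integer_multiples_of_finset p.primeCompl (S.image F)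
  have hex : ∀ x : S, ∃ c : C, algebraMap C (Localization.AtPrime p) s * F x = algebraMap C _ c := fun x => by
    obtain ⟨c, hc⟩ := hb (F x) (Finset.mem_image_of_mem F x.2)
    exact ⟨c, ((Algebra.smul_def s (F x)).symm.trans hc.symm)⟩
  choose c hc using hex
  let W : Finset L := insert (s : L) (Finset.univ.image fun x => (c x : L))
  let F₀ := IntermediateField.adjoin K (W : Set L)
  haveI : FiniteDimensional K F₀ :=
    IntermediateField.finiteDimensional_adjoin fun x _ => Algebra.IsIntegral.isIntegral x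
  let N := IntermediateField.normalClosure K F₀ L
  haveI : IsGalois K N := IsGalois.normalClosure K F₀ L
  have hWN : ∀ x ∈ W, x ∈ N := fun x hx => IntermediateField.le_normalClosure _ (IntermediateField.subset_adjoin K _ hx)
  let ι : integralClosure A N →ₐ[A] integralClosure A L := (N.val.restrictScalars A).mapIntegralClosure
  let Q := q.comap ι
  haveI : Algebra.IsInvariant A (integralClosure A N) (N ≃ₐ[K] N) := isInvariant N
  have hι : ∀ (g : L ≃ₐ[K] L) (b : integralClosure A N), ι (g.restrictNormal N • b) = g • ι b := fun g b =>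
    Subtype.ext (AlgEquiv.restrictNormal_commutes g N (b : N))
  have hIq : ∀ σ : L ≃ₐ[K] L, σ ∈ I ↔ ∀ b : integralClosure A L, σ • b - b ∈ q := fun σ => by
    rw [hI]
    refine forall_congr' fun b => ⟨fun ⟨z, hz, hzb⟩ => ?_, fun h => ⟨_, h, rfl⟩⟩
    rwa [show σ • b - b = z from Subtype.ext hzb.symm]
  obtain ⟨θ, f, hθI, hfm, hθ0, hdQ, hker, hcond⟩ := exists_monogenic (A := A) (G := N ≃ₐ[K] N) Q
  have hup : ∀ b : integralClosure A N, (∀ τ ∈ Q.inertia (N ≃ₐ[K] N), τ • b = b) → ((b : N) : L) ∈ C := by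
    intro b hb
    refine ⟨(ι b).2, fun σ => ?_⟩
    have h1 : (σ : L ≃ₐ[K] L).restrictNormal N ∈ Q.inertia (N ≃ₐ[K] N) := fun z => by
      show ι _ ∈ q
      rw [map_sub, hι]
      exact (hIq σ).mp σ.2 (ι z)
    exact (congrArg Subtype.val (congrArg ι (hb _ h1)) |> fun h => ((congrArg Subtype.val (hι σ b)).symm.trans h))
  have hdown : ∀ z : C, (hz : (z : L) ∈ N) → ∀ τ ∈ Q.inertia (N ≃ₐ[K] N),
      τ • (⟨⟨z, hz⟩, (isIntegral_algHom_iff (N.val.restrictScalars A) Subtype.val_injective).mp z.2.1⟩ : integralClosure A N) =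
        ⟨⟨z, hz⟩, (isIntegral_algHom_iff (N.val.restrictScalars A) Subtype.val_injective).mp z.2.1⟩ := by
    intro z hz τ hτ
    obtain ⟨σ0, hσ0⟩ := AlgEquiv.restrictNormalHom_surjective (F := K) (K₁ := N) L τ
    have hσ0' : σ0.restrictNormal N = τ := hσ0
    obtain ⟨σ, hσN, hσ⟩ := exists_lift q N σ0 fun b hb => by
      let b' : integralClosure A N := ⟨⟨b, hb⟩, (isIntegral_algHom_iff (N.val.restrictScalars A) Subtype.val_injective).mp b.2⟩
      have h1 : ι (τ • b' - b') ∈ q := hτ b'
      rwa [map_sub, ← hσ0', hι] at h1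
    refine Subtype.ext (Subtype.ext ?_)
    show ((τ (⟨z, hz⟩ : N) : N) : L) = z
    rw [← hσ0']
    refine (AlgEquiv.restrictNormal_commutes σ0 N _).trans ?_
    show σ0 z = z
    rw [← hσN z hz]
    exact z.2.2 ⟨σ, (hIq σ).mpr hσ⟩
  let θC : C := ⟨((θ : N) : L), hup θ hθI⟩
  have hval : ∀ r : A[X], ((aeval θC r : C) : L) = ((aeval θ r : integralClosure A N) : N) := fun r => by
    have h1 : ((aeval θC r : C) : L) = aeval (((θ : N) : L)) r := (aeval_algHom_apply C.val θC r).symm
    have h2 : ((((aeval θ r : integralClosure A N) : N)) : L) = aeval (((θ : N) : L)) r :=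
      (aeval_algHom_apply ((N.val.restrictScalars A).comp (integralClosure A N).val) θ r).symm
    exact h1.trans h2.symm
  have hinjA : Function.Injective (algebraMap A (integralClosure A N)) := fun a a' h => by
    refine IsFractionRing.injective A K ((algebraMap K N).injective ?_)
    rw [← IsScalarTower.algebraMap_apply, ← IsScalarTower.algebraMap_apply]
    exact congrArg Subtype.val h
  have hd' : aeval θC (derivative f) ∉ p := fun h => hdQ (by
    show ι _ ∈ q
    rw [show ι (aeval θ (derivative f)) = Subalgebra.inclusion inf_le_left (aeval θC (derivative f)) from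
      Subtype.ext (hval _).symm]
    exact h)
  have hr : ∀ z : C, (z : L) ∈ N → ∃ r : A[X], aeval θC r = z * aeval θC (derivative f) := fun z hz => by
    obtain ⟨r, hr⟩ := hcond _ (hdown z hz)
    refine ⟨r, Subtype.ext ?_⟩
    rw [hval, hr]
    exact congrArg ((z : L) * ·) (hval _).symm
  obtain ⟨rs, hrs⟩ := hr s (hWN _ (Finset.mem_insert_self _ _))
  obtain ⟨E, iE, aE, hE, h, hinj, hrange⟩ := exists_etale_of_conductor (Bl := Localization.AtPrime p) p θC f hfm
    (Subtype.ext ((hval f).trans (by rw [hθ0]; rfl)))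
    (fun r h0 => hker r hinjA (Subtype.ext (Subtype.ext ((hval r).symm.trans (by rw [h0]; rfl)))))
    hd' s hs rs hrs
  have hF : ∀ x, F x ∈ h.range := fun x => by
    have hx : x ∈ Algebra.adjoin A (S : Set P) := hS ▸ Algebra.mem_top
    induction hx using Algebra.adjoin_induction with
    | mem y hy =>
      obtain ⟨r, hr⟩ := hr (c ⟨y, hy⟩) (hWN _ (Finset.mem_insert_of_mem (Finset.mem_image.mpr ⟨⟨y, hy⟩, Finset.mem_univ _, rfl⟩)))
      exact hrange (F y) (c ⟨y, hy⟩) r hr (hc ⟨y, hy⟩)
    | algebraMap a => exact ⟨algebraMap A E a, by rw [F.commutes]; exact h.commutes a⟩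
    | add y z _ _ hy hz => rw [map_add]; exact h.range.add_mem hy hz
    | mul y z _ _ hy hz => rw [map_mul]; exact h.range.mul_mem hy hz
  let e := AlgEquiv.ofInjective h hinj
  refine ⟨E, iE, aE, hE, e.symm.toAlgHom.comp (F.codRestrict h.range hF), h, AlgHom.ext fun x => ?_⟩
  show h (e.symm ⟨F x, hF x⟩) = F x
  exact congrArg Subtype.val (e.apply_symm_apply ⟨F x, hF x⟩)

end Groth.Agent.H9InertiaEt
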