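import Mathlib

/-!
# An element separating the inertia cosets, and the resulting conductor bound

A finite group `G` acts on a domain `B` with invariants `A`; `Q` is a prime of `B`.
-/

set_option autoImplicit false
universe u
open scoped Pointwise
open Polynomial

namespace Groth.Agent.H9InertiaEt

variable {A B : Type u} [CommRing A] [CommRing B] [Algebra A B] {G : Type u} [Group G] [Finite G]
  [MulSemiringAction G B] [SMulCommClass G A B] [Algebra.IsInvariant A B G]

include A in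
/-- An element of the quotient moved by every element of the stabilizer outside inertia. -/
theorem exists_moved (Q : Ideal B) [Q.IsPrime] :
    ∃ b : B, ∀ τ ∈ MulAction.stabilizer G Q, τ • b - b ∈ Q → τ ∈ Q.inertia G := by
  classical
  let P := Q.under A
  haveI : P.IsPrime := Ideal.IsPrime.under A Q
  let _ := FractionRing.liftAlgebra (A ⧸ P) (FractionRing (B ⧸ Q))
  let κ := FractionRing (B ⧸ Q)
  let D := MulAction.stabilizer G Q
  let hom := IsFractionRing.stabilizerHom G P Q (FractionRing (A ⧸ P)) κ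
  letI : MulSemiringAction D κ := MulSemiringAction.compHom κ hom
  have hact : ∀ (τ : D) (b : B), τ • algebraMap (B ⧸ Q) κ (Ideal.Quotient.mk Q b) =
      algebraMap (B ⧸ Q) κ (Ideal.Quotient.mk Q ((τ : G) • b)) := fun τ b =>
    IsFractionRing.stabilizerHom_apply_apply_mk G P Q _ _ τ b
  have : Fintype D := Fintype.ofFinite D
  obtain ⟨y, hy⟩ := Field.exists_primitive_element (FixedPoints.subfield D κ) κ
  obtain ⟨b0, c0, hc0, rfl⟩ := IsFractionRing.div_surjective (B ⧸ Q) y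
  obtain ⟨b, rfl⟩ := Ideal.Quotient.mk_surjective b0
  obtain ⟨c, rfl⟩ := Ideal.Quotient.mk_surjective c0
  have hcQ : c ∉ Q := fun h => nonZeroDivisors.ne_zero hc0 (Ideal.Quotient.eq_zero_iff_mem.mpr h)
  let c' := ∏ τ : D, (τ : G) • c
  have hc'D : ∀ τ : D, (τ : G) • c' = c' := fun τ => by
    rw [Finset.smul_prod']
    exact Fintype.prod_equiv (Equiv.mulLeft τ) _ _ fun ρ => by simp [mul_smul]
  have hc'Q : c' ∉ Q := fun h => by
    obtain ⟨τ, -, hτ⟩ := (Ideal.IsPrime.prod_mem_iff (hp := ‹Q.IsPrime›)).mp h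
    refine hcQ ?_
    have h1 : c ∈ (τ : G)⁻¹ • Q := Ideal.mem_inv_pointwise_smul_iff.mpr hτ
    rwa [show (τ : G)⁻¹ • Q = Q from (D.inv_mem τ.2)] at h1
  refine ⟨b * ∏ τ ∈ Finset.univ.erase (1 : D), (τ : G) • c, fun τ hτ h => ?_⟩
  set b' := b * ∏ τ ∈ Finset.univ.erase (1 : D), (τ : G) • c with hb'
  let ι : B →+* κ := (algebraMap (B ⧸ Q) κ).comp (Ideal.Quotient.mk Q)
  have hι : ∀ z, ι z = 0 ↔ z ∈ Q := fun z => by
    rw [RingHom.comp_apply, map_eq_zero_iff _ (IsFractionRing.injective (B ⧸ Q) κ), Ideal.Quotient.eq_zero_iff_mem]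
  have hy' : ι b / ι c = ι b' / ι c' := by
    rw [div_eq_div_iff (mt (hι c).mp hcQ) (mt (hι c').mp hc'Q), ← map_mul, ← map_mul]
    congr 1
    show b * c' = b' * c
    show b * (∏ τ : D, (τ : G) • c) = _
    rw [hb', ← Finset.mul_prod_erase Finset.univ (fun τ : D => (τ : G) • c) (Finset.mem_univ 1) ]
    simp only [OneMemClass.coe_one, one_smul]
    ring
  change (IntermediateField.adjoin _ {ι b / ι c}) = ⊤ at hy
  rw [hy'] at hy
  let t : D := ⟨τ, hτ⟩
  have htb : t • ι b' = ι b' := (hact t b').trans (congrArg _ (Ideal.Quotient.eq.mpr h))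
  have htc : t • ι c' = ι c' := (hact t c').trans (congrArg _ (congrArg _ (hc'D t)))
  have htriv : ∀ z : κ, t • z = z := by
    intro z
    have hz : z ∈ IntermediateField.adjoin (FixedPoints.subfield D κ) {ι b' / ι c'} := hy ▸ IntermediateField.mem_top
    induction hz using IntermediateField.adjoin_induction with
    | mem x hx => rw [Set.mem_singleton_iff.mp hx, smul_div₀', htb, htc]
    | algebraMap x => exact x.2 t
    | add x y _ _ hx hy => rw [smul_add, hx, hy]
    | inv x _ hx => rw [smul_inv'', hx]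
    | mul x y _ _ hx hy => rw [smul_mul', hx, hy]
  intro x
  exact Ideal.Quotient.eq.mp (IsFractionRing.injective (B ⧸ Q) κ ((hact t x).symm.trans (htriv _)))

include A in
/-- An element fixed by inertia that is moved modulo `Q` by everything outside inertia. -/
theorem exists_separating (Q : Ideal B) [Q.IsPrime] :
    ∃ θ : B, (∀ τ ∈ Q.inertia G, τ • θ = θ) ∧ ∀ σ, σ ∉ Q.inertia G → σ • θ - θ ∉ Q := by
  classical
  obtain ⟨b, hb⟩ := exists_moved (A := A) Q (G := G)
  have : Fintype G := Fintype.ofFinite G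
  let D := MulAction.stabilizer G Q
  let I := Q.inertia G
  let P : B[X] := ∏ τ : I, (X - C ((τ : G) • b))
  have hP : ∀ τ : I, ∀ i, (τ : G) • P.coeff i = P.coeff i := fun τ i => by
    have h : P.map (MulSemiringAction.toRingHom G B (τ : G)) = P := by
      rw [Polynomial.map_prod]
      refine Fintype.prod_equiv (Equiv.mulLeft τ) _ _ fun ρ => ?_
      simp [mul_smul, MulSemiringAction.toRingHom_apply]
    conv_rhs => rw [← h]
    rw [coeff_map, MulSemiringAction.toRingHom_apply]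
  let x := Ideal.Quotient.mk Q b
  have hmap : P.map (Ideal.Quotient.mk Q) = (X - C x) ^ Fintype.card I := by
    rw [Polynomial.map_prod, ← Finset.card_univ, ← Finset.prod_const]
    refine Finset.prod_congr rfl fun τ _ => ?_
    rw [Polynomial.map_sub, map_X, map_C, Ideal.Quotient.eq.mpr (τ.2 b)]
  obtain ⟨e, m, hm, hcoe, hinj⟩ : ∃ (e m : ℕ), (m : B ⧸ Q) ≠ 0 ∧
      (∃ i, ((X - C x) ^ Fintype.card I).coeff i = -(m : B ⧸ Q) * x ^ e) ∧
      ∀ y z : B ⧸ Q, y ^ e = z ^ e → y = z := by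
    have hn : Fintype.card I ≠ 0 := Fintype.card_ne_zero
    have hco : ∀ (m : ℕ) (z : B ⧸ Q), m ≠ 0 → ((X - C z) ^ m).coeff (m - 1) = -(m : B ⧸ Q) * z := fun m z hm => by
      rw [sub_eq_add_neg, ← C_neg, coeff_X_add_C_pow, Nat.sub_sub_self (Nat.one_le_iff_ne_zero.mpr hm), pow_one,
        Nat.choose_symm (Nat.one_le_iff_ne_zero.mpr hm), Nat.choose_one_right]
      ring
    obtain ⟨p, hp⟩ := CharP.exists (B ⧸ Q)
    rcases CharP.char_is_prime_or_zero (B ⧸ Q) p with hp' | rfl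
    · haveI := Fact.mk hp'
      obtain ⟨e, m, hm, hnm⟩ := Nat.exists_eq_pow_mul_and_not_dvd hn p hp'.ne_one
      have hm0 : m ≠ 0 := fun h => hm (h ▸ dvd_zero p)
      refine ⟨p ^ e, m, fun h => hm ((CharP.cast_eq_zero_iff (B ⧸ Q) p m).mp h), ⟨(m - 1) * p ^ e, ?_⟩,
        fun y z h => sub_eq_zero.mp (pow_eq_zero_iff (pow_ne_zero e hp'.ne_zero) |>.mp (by
          rw [sub_pow_char_pow, h, sub_self]))⟩
      rw [hnm, pow_mul, sub_pow_char_pow, ← C_pow, ← hco m _ hm0,
        ← coeff_expand_mul (pow_pos hp'.pos e) ((X - C (x ^ p ^ e)) ^ m), map_pow (expand (B ⧸ Q) (p ^ e)),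
        map_sub, expand_X, expand_C]
    · haveI := CharP.charP_to_charZero (B ⧸ Q)
      exact ⟨1, Fintype.card I, Nat.cast_ne_zero.mpr hn, ⟨_, by rw [pow_one]; exact hco _ x hn⟩,
        fun y z h => by simpa using h⟩
  obtain ⟨i, hi⟩ := hcoe
  let c0 := P.coeff i
  have hc0 : ∀ τ ∈ D, τ • c0 - c0 ∈ Q → τ ∈ I := fun τ hτ h => by
    refine hb τ hτ ?_
    let d : D := ⟨τ, hτ⟩
    have h0 : Ideal.Quotient.mk Q c0 = -(m : B ⧸ Q) * x ^ e := by rw [← coeff_map, hmap, hi]
    have h1 : Ideal.Quotient.mk Q (τ • c0) = -(m : B ⧸ Q) * (Ideal.Quotient.mk Q (τ • b)) ^ e := by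
      have h2 : c0 - (-(m : B) * b ^ e) ∈ Q := Ideal.Quotient.eq.mp (by rw [h0, map_mul, map_neg, map_natCast, map_pow])
      have h3 : τ • (c0 - (-(m : B) * b ^ e)) ∈ Q := by
        have := Ideal.smul_mem_pointwise_smul τ _ Q h2
        rwa [show τ • Q = Q from hτ] at this
      rw [smul_sub, smul_mul', smul_neg, smul_pow'] at h3
      rw [show τ • (m : B) = (m : B) from map_natCast (MulSemiringAction.toRingHom G B τ) m] at h3
      rw [Ideal.Quotient.eq.mpr h3, map_mul, map_neg, map_natCast, map_pow]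
    rw [← Ideal.Quotient.eq, h1, h0] at h
    exact Ideal.Quotient.eq.mp (hinj _ _ (mul_left_cancel₀ (neg_ne_zero.mpr hm) h))
  obtain ⟨c, hcI, hcD, hcQ⟩ : ∃ c : B, (∀ τ ∈ I, τ • c = c) ∧ (∀ τ ∈ D, τ • c - c ∈ Q → τ ∈ I) ∧ c ∉ Q := by
    by_cases h : c0 ∈ Q
    · refine ⟨c0 + 1, fun τ hτ => by rw [smul_add, smul_one, hP ⟨τ, hτ⟩], fun τ hτ h' => hc0 τ hτ ?_, fun h' => ?_⟩
      · rwa [smul_add, smul_one, add_sub_add_right_eq_sub] at h'
      · exact (Ideal.ne_top_iff_one Q).mp (Ideal.IsPrime.ne_top') (by simpa using Q.sub_mem h' h)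
    · exact ⟨c0, fun τ hτ => hP ⟨τ, hτ⟩ i, hc0, h⟩
  have hex : ∀ σ : {σ : G // σ ∉ D}, ∃ z, z ∈ (σ : G) • Q ∧ z ∉ Q := fun σ => by
    by_contra! hle
    have hle' : (σ : G) • Q ≤ Q := fun y hy => hle y hy
    have h : Q ≤ (σ : G)⁻¹ • Q := fun y hy => Ideal.mem_inv_pointwise_smul_iff.mpr
      (hle' (Ideal.smul_mem_pointwise_smul _ _ _ hy))
    exact σ.2 (inv_inv (σ : G) ▸ D.inv_mem (MulAction.mem_stabilizer_iff.mpr (smul_eq_of_le_smul h)))
  choose z hz hzQ using hex
  obtain ⟨e0, he0⟩ : ∃ e0, e0 = ∏ σ, z σ := ⟨_, rfl⟩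
  obtain ⟨E, hE⟩ : ∃ E, E = ∏ τ : D, (τ : G) • e0 := ⟨_, rfl⟩
  have hED : ∀ τ ∈ D, τ • E = E := fun τ hτ => by
    rw [hE, Finset.smul_prod']
    exact Fintype.prod_equiv (Equiv.mulLeft (⟨τ, hτ⟩ : D)) _ _ fun ρ => (mul_smul _ _ _).symm
  have hEQ : E ∉ Q := fun h => by
    rw [hE] at h
    obtain ⟨τ, -, hτ⟩ := (Ideal.IsPrime.prod_mem_iff (hp := ‹Q.IsPrime›)).mp h
    have h1 : e0 ∈ (τ : G)⁻¹ • Q := Ideal.mem_inv_pointwise_smul_iff.mpr hτ
    rw [show (τ : G)⁻¹ • Q = Q from (D.inv_mem τ.2)] at h1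
    rw [he0] at h1
    obtain ⟨σ, -, hσ⟩ := (Ideal.IsPrime.prod_mem_iff (hp := ‹Q.IsPrime›)).mp h1
    exact hzQ σ hσ
  have hEσ : ∀ σ, σ ∉ D → σ • E ∈ Q := fun σ hσ => by
    have h : E ∈ σ⁻¹ • Q := by
      rw [hE, ← Finset.mul_prod_erase Finset.univ (fun τ : D => (τ : G) • e0) (Finset.mem_univ 1)]
      refine Ideal.mul_mem_right _ _ ?_
      simp only [OneMemClass.coe_one, one_smul]
      have hσ' : σ⁻¹ ∉ D := fun h => hσ (inv_inv σ ▸ D.inv_mem h)
      obtain ⟨w, hw⟩ := Finset.dvd_prod_of_mem z (Finset.mem_univ (⟨σ⁻¹, hσ'⟩ : {g : G // g ∉ D}))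
      rw [he0, hw]
      exact Ideal.mul_mem_right _ _ (hz ⟨σ⁻¹, hσ'⟩)
    exact Ideal.mem_inv_pointwise_smul_iff.mp h
  have hID : ∀ τ ∈ I, τ ∈ D := fun τ hτ => Ideal.inertia_le_stabilizer Q hτ
  refine ⟨c * E, fun τ hτ => by rw [smul_mul', hcI τ hτ, hED τ (hID τ hτ)], fun σ hσ h => ?_⟩
  by_cases hσD : σ ∈ D
  · rw [smul_mul', hED σ hσD, ← sub_mul] at h
    exact hσ (hcD σ hσD ((‹Q.IsPrime›.mem_or_mem h).resolve_right hEQ))
  · rw [smul_mul'] at h
    have := Q.sub_mem (Q.mul_mem_left (σ • c) (hEσ σ hσD)) h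
    rw [sub_sub_cancel] at this
    exact (‹Q.IsPrime›.mem_or_mem this).elim hcQ hEQ

/-- The conductor of `A[θ]` in the inertia invariants avoids `Q`. -/
theorem exists_monogenic [IsDomain B] (Q : Ideal B) [Q.IsPrime] :
    ∃ (θ : B) (f : A[X]), (∀ τ ∈ Q.inertia G, τ • θ = θ) ∧ f.Monic ∧ aeval θ f = 0 ∧
      aeval θ (derivative f) ∉ Q ∧
      (∀ p : A[X], Function.Injective (algebraMap A B) → aeval θ p = 0 → f ∣ p) ∧
      ∀ c : B, (∀ τ ∈ Q.inertia G, τ • c = c) → ∃ r : A[X], aeval θ r = c * aeval θ (derivative f) := by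
  classical
  obtain ⟨θ, hθ, hsep⟩ := exists_separating (A := A) Q (G := G)
  have : Fintype G := Fintype.ofFinite G
  let T : Finset B := Finset.univ.image fun σ : G => σ • θ
  have hθT : θ ∈ T := Finset.mem_image.mpr ⟨1, Finset.mem_univ _, one_smul _ _⟩
  have hT : ∀ (σ : G) (t : B), t ∈ T → σ • t ∈ T := fun σ t ht => by
    obtain ⟨ρ, -, rfl⟩ := Finset.mem_image.mp ht
    exact Finset.mem_image.mpr ⟨σ * ρ, Finset.mem_univ _, mul_smul _ _ _⟩
  have hσT : ∀ σ : G, T.image (σ • ·) = T := fun σ =>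
    Finset.eq_of_subset_of_card_le (fun _ h => by
      obtain ⟨t, ht, rfl⟩ := Finset.mem_image.mp h
      exact hT σ t ht) (by rw [Finset.card_image_of_injective _ (MulAction.injective σ)])
  have hlift : ∀ p : B[X], (∀ σ : G, p.map (MulSemiringAction.toRingHom G B σ) = p) →
      ∃ q : A[X], q.map (algebraMap A B) = p := fun p hp => by
    refine (Polynomial.mem_lifts p).mp ((Polynomial.lifts_iff_coeff_lifts p).mpr fun n => ?_)
    refine Algebra.IsInvariant.isInvariant (A := A) (G := G) _ fun σ => ?_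
    conv_rhs => rw [← hp σ]
    rw [coeff_map, MulSemiringAction.toRingHom_apply]
  let F : B[X] := ∏ t ∈ T, (X - C t)
  have hF : ∀ σ : G, F.map (MulSemiringAction.toRingHom G B σ) = F := fun σ => by
    conv_rhs => rw [show F = ∏ t ∈ T.image (σ • ·), (X - C t) by rw [hσT]]
    rw [Polynomial.map_prod, Finset.prod_image (MulAction.injective σ).injOn]
    simp [MulSemiringAction.toRingHom_apply]
  have hFm : F.Monic := monic_prod_of_monic _ _ fun t _ => monic_X_sub_C t
  obtain ⟨f, hf, hfd, hfm⟩ := Polynomial.lifts_and_natDegree_eq_and_monic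
    ((Polynomial.mem_lifts F).mpr (hlift F hF)) hFm
  have hev : ∀ p : A[X], aeval θ p = (p.map (algebraMap A B)).eval θ := fun p => by
    rw [eval_map, aeval_def]
  have hd : aeval θ (derivative f) = ∏ t ∈ T.erase θ, (θ - t) := by
    rw [hev, ← derivative_map, hf, derivative_prod_finset, eval_finset_sum, Finset.sum_eq_single_of_mem θ hθT]
    · simp [eval_prod]
    · intro t _ hne
      rw [eval_mul, eval_prod, Finset.prod_eq_zero (i := θ) (Finset.mem_erase.mpr ⟨hne.symm, hθT⟩) (by simp), zero_mul]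
  refine ⟨θ, f, hθ, hfm, ?_, ?_, fun p hinj hp => ?_, fun c hc => ?_⟩
  · rw [hev, hf, eval_prod]
    exact Finset.prod_eq_zero hθT (by simp)
  · rw [hd]
    intro h
    obtain ⟨t, ht, htQ⟩ := (Ideal.IsPrime.prod_mem_iff (hp := ‹Q.IsPrime›)).mp h
    obtain ⟨hne, ht⟩ := Finset.mem_erase.mp ht
    obtain ⟨σ, -, rfl⟩ := Finset.mem_image.mp ht
    exact hsep σ (fun hσ => hne (hθ σ hσ)) (by simpa using Q.neg_mem htQ)
  · rw [← Polynomial.modByMonic_eq_zero_iff_dvd hfm]
    have h0 : aeval θ (p %ₘ f) = 0 := by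
      rw [Polynomial.modByMonic_eq_sub_mul_div p f, map_sub, map_mul, hp, hev f, hf, eval_prod,
        Finset.prod_eq_zero (i := θ) hθT (by simp), zero_mul, sub_zero]
    refine Polynomial.map_injective _ hinj ((eq_zero_of_natDegree_lt_card_of_eval_eq_zero' _ T (fun t ht => ?_) ?_).trans
      (Polynomial.map_zero _).symm)
    · obtain ⟨σ, -, rfl⟩ := Finset.mem_image.mp ht
      rw [eval_map, ← aeval_def, show σ • θ = MulSemiringAction.toAlgHom A B σ θ from rfl, aeval_algHom_apply, h0, map_zero]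
    · have hne : f ≠ 1 := fun h => by
        have := congrArg natDegree (h ▸ hf : (1 : A[X]).map (algebraMap A B) = F)
        rw [Polynomial.map_one, natDegree_one, natDegree_prod_of_monic _ _ fun t _ => monic_X_sub_C t] at this
        simp at this
        exact Finset.card_pos.mpr ⟨θ, hθT⟩ |>.ne' this.symm
      calc ((p %ₘ f).map (algebraMap A B)).natDegree ≤ (p %ₘ f).natDegree := natDegree_map_le
        _ < f.natDegree := natDegree_modByMonic_lt p hfm hne
        _ = T.card := by rw [hfd, natDegree_prod_of_monic _ _ fun t _ => monic_X_sub_C t]; simp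
  · have hwd : ∀ σ ρ : G, σ • θ = ρ • θ → σ • c = ρ • c := fun σ ρ h => by
      have h1 : (ρ⁻¹ * σ) • θ = θ := by rw [mul_smul, h, inv_smul_smul]
      have h2 : ρ⁻¹ * σ ∈ Q.inertia G := by
        by_contra hn
        exact hsep _ hn (by simp [h1])
      have h3 := congrArg (ρ • ·) (hc _ h2)
      simpa [mul_smul] using h3
    have hex : ∀ t : T, ∃ σ : G, σ • θ = (t : B) := fun t => by
      obtain ⟨σ, -, h⟩ := Finset.mem_image.mp t.2
      exact ⟨σ, h⟩
    choose s hs using hex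
    let ct : B → B := fun t => if h : t ∈ T then s ⟨t, h⟩ • c else 0
    have hct : ∀ (σ : G) (t : B), t ∈ T → ct (σ • t) = σ • ct t := fun σ t ht => by
      simp only [ct, dif_pos ht, dif_pos (hT σ t ht), ← mul_smul]
      exact hwd _ _ (by rw [hs, mul_smul, hs])
    let R : B[X] := ∑ t ∈ T, C (ct t) * ∏ u ∈ T.erase t, (X - C u)
    obtain ⟨r, hr⟩ := hlift R fun σ => by
      conv_rhs => rw [show R = ∑ t ∈ T.image (σ • ·), C (ct t) * ∏ u ∈ T.erase t, (X - C u) by rw [hσT]]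
      rw [Polynomial.map_sum, Finset.sum_image (MulAction.injective σ).injOn]
      refine Finset.sum_congr rfl fun t ht => ?_
      rw [Polynomial.map_mul, map_C, MulSemiringAction.toRingHom_apply, hct σ t ht, Polynomial.map_prod]
      congr 1
      rw [show T.erase (σ • t) = (T.erase t).image (σ • ·) by rw [Finset.image_erase (MulAction.injective σ), hσT],
        Finset.prod_image (MulAction.injective σ).injOn]
      simp [MulSemiringAction.toRingHom_apply]
    refine ⟨r, ?_⟩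
    rw [hev r, hr, hd, eval_finset_sum, Finset.sum_eq_single_of_mem θ hθT]
    · simp only [eval_mul, eval_C, eval_prod, eval_sub, eval_X]
      congr 1
      simp only [ct, dif_pos hθT]
      exact (hwd _ 1 (by rw [hs, one_smul])).trans (one_smul _ c)
    · intro t _ hne
      rw [eval_mul, eval_prod, Finset.prod_eq_zero (i := θ) (Finset.mem_erase.mpr ⟨hne.symm, hθT⟩) (by simp), mul_zero]

end Groth.Agent.H9InertiaEt
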